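import Groth.Agent.Lib.HTop.Sheaf
import Groth.Agent.Lib.FppfPh.Main
import Groth.Agent.S8978
import Mathlib.CategoryTheory.Sites.Canonical

/-! # The sheaf criterion for the big h site -/

set_option backward.isDefEq.respectTransparency false

universe w w' u

open CategoryTheory CategoryTheory.Limits AlgebraicGeometry Opposite TopologicalSpace

namespace GrothLib.HSheafCrit4

open _root_.HTop GrothLib.HTop

theorem isHCover_of_isOpenImmersion {T : Scheme.{u}} (E : PreZeroHypercover.{w} T)
    (h : ∀ i, IsOpenImmersion (E.f i)) (hsurj : ∀ t : T, ∃ (i : E.I₀) (x : E.X i), E.f i x = t) :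
    IsHCover E := by
  refine ⟨fun i => by have := h i; infer_instance, fun U => ?_⟩
  obtain ⟨F, hF, hr⟩ := (GrothLib.FppfPh.isPhCover_of_fppf E
    (fun i => by have := h i; infer_instance) (fun i => by have := h i; infer_instance) hsurj).2 U
  exact ⟨F, isStandardV_of_isStandardPh F hF, hr⟩

theorem zariskiTopology_le_hTopology : Scheme.zariskiTopology.{u} ≤ hTopology.{u} := by
  refine Precoverage.toGrothendieck_mono fun X R hR => ?_
  rw [Precoverage.mem_iff_exists_zeroHypercover] at hR
  obtain ⟨E, rfl⟩ := hR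
  obtain ⟨h1, h2⟩ := (Scheme.ofArrows_mem_precoverage_iff _).1 E.mem₀
  refine (presieve₀_mem_hPrecoverage_iff E.toPreZeroHypercover).2
    (isHCover_of_isOpenImmersion _ h2 fun t => ?_)
  obtain ⟨i, x, hx⟩ := h1 t
  exact ⟨i, x, hx⟩

variable {S : Scheme.{u}} {F : (Over S)ᵒᵖ ⥤ Type w}

/-- An open subscheme of an `S`-scheme as an `S`-scheme. -/
abbrev openOver (Y : Over S) (U : Y.left.Opens) : Over S := Over.mk (U.ι ≫ Y.hom)

abbrev openOverι (Y : Over S) (U : Y.left.Opens) : openOver Y U ⟶ Y := Over.homMk U.ι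

/-- The sieve generated by the affine opens. -/
abbrev affineSieve (Y : Over S) : Sieve Y :=
  Sieve.ofArrows (fun U : Y.left.affineOpens => openOver Y U.1) (fun U => openOverι Y U.1)

theorem affineSieve_mem (Y : Over S) : affineSieve Y ∈ Scheme.zariskiTopology.over S Y := by
  rw [GrothendieckTopology.mem_over_iff, affineSieve, Sieve.overEquiv_ofArrows]
  exact (Y.left.openCoverOfIsOpenCover (fun U : Y.left.affineOpens => U.1)
    (iSup_affineOpens_eq_top Y.left)).mem_grothendieckTopology

theorem sep_aux (hZ : Presieve.IsSheaf (Scheme.zariskiTopology.over S) F) {Y : Over S} (T : Sieve Y)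
    (h : ∀ (A : Over S) (e : A ⟶ Y), IsAffine A.left → Presieve.IsSheafFor F (T.pullback e).arrows)
    {Z : Over S} (g : Z ⟶ Y) {t₁ t₂ : F.obj (op Z)}
    (ht : ∀ ⦃W : Over S⦄ (k : W ⟶ Z), T (k ≫ g) → F.map k.op t₁ = F.map k.op t₂) : t₁ = t₂ := by
  refine (hZ _ (affineSieve_mem Z)).isSeparatedFor.ext ?_
  rintro _ _ ⟨_, k, _, ⟨U⟩, rfl⟩
  rw [op_comp, F.map_comp, comp_apply, comp_apply]
  refine congrArg _ ((h _ (openOverι Z U.1 ≫ g) U.2).isSeparatedFor.ext fun W l hl => ?_)
  rw [← comp_apply, ← F.map_comp, ← comp_apply, ← F.map_comp, ← op_comp]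
  exact ht _ (by rw [Category.assoc]; exact hl)

/-- Sheafiness for a sieve may be tested on affine objects. -/
theorem isSheafFor_of_affine (hZ : Presieve.IsSheaf (Scheme.zariskiTopology.over S) F) {Y₀ : Over S}
    (T : Sieve Y₀)
    (h : ∀ (A : Over S) (e : A ⟶ Y₀), IsAffine A.left → Presieve.IsSheafFor F (T.pullback e).arrows) :
    Presieve.IsSheafFor F T.arrows := by
  rw [← Presieve.isSeparatedFor_and_exists_isAmalgamation_iff_isSheafFor]
  refine ⟨fun x t₁ t₂ h₁ h₂ => sep_aux hZ T h (𝟙 Y₀) fun W k hk => ?_, fun x hx => ?_⟩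
  · rw [Category.comp_id] at hk
    exact (h₁ k hk).trans (h₂ k hk).symm
  have hloc : ∀ U : Y₀.left.affineOpens, ∃ s : F.obj (op (openOver Y₀ U.1)),
      ∀ ⦃W : Over S⦄ (l : W ⟶ openOver Y₀ U.1) (hl : T (l ≫ openOverι Y₀ U.1)),
        F.map l.op s = x (l ≫ openOverι Y₀ U.1) hl := fun U => by
    let x' : Presieve.FamilyOfElements F (T.pullback (openOverι Y₀ U.1)).arrows :=
      fun W l hl => x (l ≫ openOverι Y₀ U.1) hl
    have hx' : x'.Compatible := fun W₁ W₂ Z g₁ g₂ f₁ f₂ h₁ h₂ e =>
      hx g₁ g₂ h₁ h₂ (by rw [← Category.assoc, e, Category.assoc])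
    obtain ⟨s, hs, -⟩ := h _ (openOverι Y₀ U.1) U.2 x' hx'
    exact ⟨s, fun W l hl => hs l hl⟩
  choose s hs using hloc
  obtain ⟨t, ht, -⟩ := (Presieve.isSheafFor_arrows_iff _ _).1
    ((Presieve.isSheafFor_iff_generate _).2 (hZ _ (affineSieve_mem Y₀))) s fun U V Z p q hpq => by
      refine sep_aux hZ T h (p ≫ openOverι Y₀ U.1) fun W k hk => ?_
      rw [← comp_apply, ← F.map_comp, ← comp_apply, ← F.map_comp, ← op_comp, ← op_comp,
        hs U (k ≫ p) (by rwa [Category.assoc]),
        hs V (k ≫ q) (by rwa [Category.assoc, ← hpq])]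
      congr 1
      rw [Category.assoc, Category.assoc, hpq]
  refine ⟨t, fun W f hf => ?_⟩
  refine (hZ _ ((Scheme.zariskiTopology.over S).pullback_stable f (affineSieve_mem Y₀))).isSeparatedFor.ext ?_
  rintro Z k ⟨Wa, l, fa, ⟨U⟩, hl⟩
  have hT : T (l ≫ openOverι Y₀ U.1) := by
    rw [hl]; exact T.downward_closed hf k
  rw [← comp_apply, ← F.map_comp, ← op_comp, ← hl, op_comp, F.map_comp, comp_apply, ht U, hs U l hT]
  refine Eq.trans ?_ ((hx (𝟙 _) k hT hf (by rw [Category.id_comp, hl])))
  simp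

theorem singleton_mem_finest (hZ : Presieve.IsSheaf (Scheme.zariskiTopology.over S) F)
    (hP : ∀ (U V : Over S) (f : V ⟶ U), IsAffine U.left → IsProper f.left → Surjective f.left →
      LocallyOfFinitePresentation f.left → Presieve.IsSheafFor F (Presieve.singleton f))
    {U V : Over S} (f : V ⟶ U) [IsProper f.left] [Surjective f.left] [LocallyOfFinitePresentation f.left] :
    Sieve.generate (Presieve.singleton f) ∈ Sheaf.finestTopologySingle F U := by
  intro Y k
  refine isSheafFor_of_affine hZ _ fun A e hA => ?_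
  let m : A ⟶ U := e ≫ k
  let Q : Over S := Over.mk (pullback.fst m.left f.left ≫ A.hom)
  let q : Q ⟶ A := Over.homMk (pullback.fst m.left f.left)
  let r : Q ⟶ V := Over.homMk (pullback.snd m.left f.left) (by
    show pullback.snd m.left f.left ≫ V.hom = pullback.fst m.left f.left ≫ A.hom
    rw [← Over.w f, ← pullback.condition_assoc, Over.w m])
  have hsq : q ≫ m = r ≫ f := Over.OverMorphism.ext pullback.condition
  have heq : ((Sieve.generate (Presieve.singleton f)).pullback k).pullback e =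
      Sieve.generate (Presieve.singleton q) := by
    refine Sieve.ext fun W h => ⟨?_, ?_⟩
    · rintro ⟨_, l, _, ⟨⟩, hl⟩
      have hl' : l ≫ f = h ≫ m := hl.trans (Category.assoc _ _ _)
      refine ⟨Q, Over.homMk (pullback.lift h.left l.left (congrArg CommaMorphism.left hl').symm) ?_, q,
        ⟨⟩, Over.OverMorphism.ext (pullback.lift_fst _ _ _)⟩
      show pullback.lift _ _ _ ≫ pullback.fst _ _ ≫ A.hom = W.hom
      rw [pullback.lift_fst_assoc]
      exact Over.w h
    · rintro ⟨_, l, _, ⟨⟩, rfl⟩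
      refine ⟨V, l ≫ r, f, ⟨⟩, ?_⟩
      rw [Category.assoc, ← hsq]
      simp [m]
  rw [heq, ← Presieve.isSheafFor_iff_generate]
  exact hP A Q q hA (show IsProper (pullback.fst m.left f.left) from inferInstance)
    (show Surjective (pullback.fst m.left f.left) from inferInstance)
    (show LocallyOfFinitePresentation (pullback.fst m.left f.left) from inferInstance)

theorem isSheaf_Jh (hZ : Presieve.IsSheaf (Scheme.zariskiTopology.over S) F)
    (hP : ∀ (U V : Over S) (f : V ⟶ U), IsAffine U.left → IsProper f.left → Surjective f.left →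
      LocallyOfFinitePresentation f.left → Presieve.IsSheafFor F (Presieve.singleton f)) :
    Presieve.IsSheaf (Jh S) F := by
  let J := Sheaf.finestTopologySingle F
  have hle : ∀ {Y : Over S} {T : Sieve Y}, T ∈ Scheme.zariskiTopology.over S Y → T ∈ J Y :=
    fun {Y T} hT Z f => hZ _ ((Scheme.zariskiTopology.over S).pullback_stable f hT)
  suffices ∀ (X : Scheme.{u}) (T : Sieve X), T ∈ hTopology X → ∀ (Y : Over S) (e : Y.left ⟶ X),
      (Sieve.overEquiv Y).symm (T.pullback e) ∈ J Y by
    intro Y T hT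
    have h := this Y.left _ ((GrothendieckTopology.mem_over_iff _ _).1 hT) Y (𝟙 _) Y (𝟙 _)
    rwa [Sieve.pullback_id, Sieve.pullback_id, OrderIso.symm_apply_apply] at h
  intro X T hT
  induction hT with
  | of X R hR =>
    intro Y₀ e
    refine J.transitive (hle (affineSieve_mem Y₀)) _ ?_
    rintro Za fz ⟨Wa, l, fa, ⟨U⟩, rfl⟩
    rw [Sieve.pullback_comp]
    refine J.pullback_stable l ?_
    rw [← Sieve.overEquiv_symm_pullback, ← Sieve.pullback_comp]
    let A : Over S := openOver Y₀ U.1
    have : IsAffine A.left := U.2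
    let e' : A.left ⟶ X := U.1.ι ≫ e
    show (Sieve.overEquiv A).symm ((Sieve.generate R).pullback e') ∈ J A
    rw [Precoverage.mem_iff_exists_zeroHypercover] at hR
    obtain ⟨E, rfl⟩ := hR
    have hE : IsHCover E.toPreZeroHypercover := (presieve₀_mem_hPrecoverage_iff _).1 E.mem₀
    have hE' : IsHCover (E.toPreZeroHypercover.pullback₁ e') := ⟨fun i => by
      have := hE.1 i
      exact inferInstanceAs (LocallyOfFinitePresentation (pullback.fst e' (E.f i))),
      isVCover_pullback₁ e' _ hE.2⟩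
    obtain ⟨P, g, n, V, hg1, hg2, hg3, hVa, hVsup, hVf⟩ := Groth.Agent.S8978.result _ hE'
    let Pr : Over S := Over.mk (g ≫ A.hom)
    let g' : Pr ⟶ A := Over.homMk g
    have : IsProper g'.left := hg1
    have : Surjective g'.left := hg2
    have : LocallyOfFinitePresentation g'.left := hg3
    refine J.transitive (singleton_mem_finest hZ hP g') _ ?_
    rintro Zb fb ⟨Wb, l, fc, ⟨⟩, rfl⟩
    rw [Sieve.pullback_comp]
    refine J.pullback_stable l (hle ?_)
    rw [GrothendieckTopology.mem_over_iff, ← Sieve.overEquiv_symm_pullback, OrderIso.apply_symm_apply]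
    refine GrothendieckTopology.superset_covering _ ?_
      (Pr.left.openCoverOfIsOpenCover V hVsup).mem_grothendieckTopology
    rintro Z _ ⟨_, l', _, ⟨j⟩, rfl⟩
    obtain ⟨i, h, hh⟩ := hVf j
    let h' : ((V j : Scheme.{u})) ⟶ pullback e' (E.f i) := h
    have hh' : h' ≫ pullback.fst e' (E.f i) = (V j).ι ≫ g := hh
    refine ⟨_, l' ≫ h' ≫ pullback.snd e' (E.f i), E.f i, ⟨i⟩, ?_⟩
    show _ = ((l' ≫ (V j).ι) ≫ g) ≫ e'
    simp only [Category.assoc]
    rw [← pullback.condition, reassoc_of% hh']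
  | top X =>
    intro Y e
    rw [Sieve.pullback_top]
    exact J.superset_covering (fun _ _ _ => trivial) (J.top_mem Y)
  | pullback X T _ Z f ih =>
    intro Y e
    rw [← Sieve.pullback_comp]
    exact ih Y (e ≫ f)
  | transitive X T R _ _ ih₁ ih₂ =>
    intro Y e
    refine J.transitive (ih₁ Y e) _ fun Z g hg => ?_
    rw [← Sieve.overEquiv_symm_pullback, ← Sieve.pullback_comp]
    have h2 := ih₂ (f := g.left ≫ e) hg Z (𝟙 _)
    rwa [Sieve.pullback_id] at h2

theorem isSheaf_Jh_iff : Presieve.IsSheaf (Jh S) F ↔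
    (Presieve.IsSheaf (Scheme.zariskiTopology.over S) F ∧
      ∀ (U V : Over S) (f : V ⟶ U), IsAffine U.left → IsProper f.left → Surjective f.left →
        LocallyOfFinitePresentation f.left → Presieve.IsSheafFor F (Presieve.singleton f)) := by
  refine ⟨fun h => ⟨fun Y T hT => h T ?_, fun U V f _ _ _ _ => ?_⟩, fun h => isSheaf_Jh h.1 h.2⟩
  · rw [GrothendieckTopology.mem_over_iff] at hT ⊢
    exact zariskiTopology_le_hTopology _ hT
  · rw [Presieve.isSheafFor_iff_generate]
    exact h _ (generate_singleton_mem_over f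
      (by rw [← Presieve.ofArrows_pUnit.{0}]
          exact (presieve₀_mem_hPrecoverage_iff (PreZeroHypercover.singleton.{0} f.left)).2
            (isHCover_singleton f.left)))

end GrothLib.HSheafCrit4
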